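import Groth.Agent.H18Quot.Criterion
import Groth.Agent.H18Quot.InvariantsBC
import Mathlib.AlgebraicGeometry.Morphisms.Flat
import Mathlib

/-!
# Quotients by finite groups: flat base change, products
-/

set_option autoImplicit false
set_option linter.style.haveILetI false
set_option backward.isDefEq.respectTransparency false

universe u

open CategoryTheory CategoryTheory.Limits AlgebraicGeometry

namespace Groth.Agent.H27QuotBC

variable {X Y X' Y' : Scheme.{u}} {G : Type u} [Group G]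

theorem isQuot_of_flat_baseChange [Finite G] {ρ : G →* Aut X} {p : X ⟶ Y} (hp : SGA1.IsQuot ρ p)
    {j : X' ⟶ X} {r : X' ⟶ Y'} {g : Y' ⟶ Y} [Flat g] (H : IsPullback j r p g)
    (ρ' : G →* Aut X') (hj : ∀ γ, (ρ' γ).hom ≫ j = j ≫ (ρ γ).hom)
    (hr : ∀ γ, (ρ' γ).hom ≫ r = r) : SGA1.IsQuot ρ' r := by
  haveI := hp.affine
  haveI : IsAffineHom r := MorphismProperty.of_isPullback H (inferInstanceAs (IsAffineHom p))
  have key : ∀ V : Y'.Opens, IsAffineOpen V ∧ (∃ U : Y.Opens, IsAffineOpen U ∧ V ≤ g ⁻¹ᵁ U) →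
      Function.Injective (r.app V).hom ∧ ∀ s : Γ(X', r ⁻¹ᵁ V),
        (∀ γ : G, ((ρ' γ).hom.appLE (r ⁻¹ᵁ V) (r ⁻¹ᵁ V)
          (SGA1.preimage_le_of_inv ρ' r hr γ V)).hom s = s) → s ∈ Set.range (r.app V).hom := by
    rintro V ⟨hV, U, hU, hVU⟩
    have hUY : r ⁻¹ᵁ V = j ⁻¹ᵁ (p ⁻¹ᵁ U) ⊓ r ⁻¹ᵁ V := by
      refine le_antisymm (le_inf ?_ le_rfl) inf_le_right
      rw [← Scheme.Hom.comp_preimage, H.w, Scheme.Hom.comp_preimage]
      exact r.preimage_mono hVU
    have hle : r ⁻¹ᵁ V ≤ j ⁻¹ᵁ (p ⁻¹ᵁ U) := hUY.le.trans inf_le_left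
    have hsq := (isIso_pushoutSection_iff H hVU le_rfl hUY).1
      (isIso_pushoutSection_of_isAffineOpen H hVU le_rfl hUY hU hV (hU.preimage p))
    have hpU : p.appLE U (p ⁻¹ᵁ U) le_rfl = p.app U := (Scheme.Hom.app_eq_appLE p).symm
    have hrV : r.appLE V (r ⁻¹ᵁ V) le_rfl = r.app V := (Scheme.Hom.app_eq_appLE r).symm
    have hres := H18Quot.invariants_baseChange hsq
      (HasRingHomProperty.appLE @Flat g inferInstance ⟨U, hU⟩ ⟨V, hV⟩ hVU)
      (fun γ => ((ρ γ).hom.appLE (p ⁻¹ᵁ U) (p ⁻¹ᵁ U) (SGA1.preimage_le_of_inv ρ p hp.inv γ U)).hom)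
      (fun γ => ((ρ' γ).hom.appLE (r ⁻¹ᵁ V) (r ⁻¹ᵁ V) (SGA1.preimage_le_of_inv ρ' r hr γ V)).hom)
      (fun γ b => by
        rw [hpU]
        exact H18Quot.invariant_app ρ p hp.inv U b γ)
      (fun γ x => by
        rw [← CommRingCat.comp_apply, ← CommRingCat.comp_apply, Scheme.Hom.appLE_comp_appLE,
          Scheme.Hom.appLE_comp_appLE]
        simp only [hj γ])
      (fun γ y => by
        rw [← CommRingCat.comp_apply, Scheme.Hom.appLE_comp_appLE]
        simp only [hr γ])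
      (by rw [hpU]; exact hp.injective U)
      (fun x hx => by rw [hpU]; exact (hp.range_iff U x).2 hx)
    rw [hrV] at hres
    exact hres
  refine H18Quot.isQuot_of_basis ρ' r hr
    (fun V => IsAffineOpen V ∧ ∃ U : Y.Opens, IsAffineOpen U ∧ V ≤ g ⁻¹ᵁ U) (fun W y hy => ?_)
    (fun V hV => (key V hV).1) (fun V hV => (key V hV).2)
  obtain ⟨U, hU, hyU, -⟩ := exists_isAffineOpen_mem_and_subset (X := Y) (x := g y) (U := ⊤) trivial
  obtain ⟨V, hV, hyV, hVle⟩ :=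
    exists_isAffineOpen_mem_and_subset (X := Y') (x := y) (U := W ⊓ g ⁻¹ᵁ U) ⟨hy, hyU⟩
  exact ⟨V, ⟨hV, U, hU, fun z hz => (hVle hz).2⟩, hyV, fun z hz => (hVle hz).1⟩

variable {Z : Scheme.{u}} {H : Type u} [Group H]

/-- A quotient by `G` followed by a quotient by `H` is a quotient by `G × H`. -/
theorem isQuot_comp {θ : G × H →* Aut X} {a : X ⟶ Y}
    (ha : SGA1.IsQuot (θ.comp (MonoidHom.inl G H)) a) {σ : H →* Aut Y} {b : Y ⟶ Z}
    (hb : SGA1.IsQuot σ b) (hσ : ∀ h, (θ (1, h)).hom ≫ a = a ≫ (σ h).hom) :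
    SGA1.IsQuot θ (a ≫ b) := by
  haveI := ha.affine
  haveI := hb.affine
  have h2 : ∀ γ : G × H, (θ γ).hom ≫ a = a ≫ (σ γ.2).hom := by
    rintro ⟨g, h⟩
    have : θ (g, h) = θ (g, 1) * θ (1, h) := by rw [← map_mul]; simp
    rw [this, Aut.Aut_mul_def, Iso.trans_hom, Category.assoc,
      show (θ (g, 1)).hom ≫ a = a from ha.inv g, hσ]
  have hinv : ∀ γ : G × H, (θ γ).hom ≫ a ≫ b = a ≫ b := fun γ => by
    rw [← Category.assoc, h2, Category.assoc, hb.inv]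
  have happ : ∀ U, (a ≫ b).app U = b.app U ≫ a.app (b ⁻¹ᵁ U) := fun U => Scheme.Hom.comp_app _ _ _
  refine ⟨inferInstance, hinv, fun U => ?_, fun U s => ⟨?_, fun hs => ?_⟩⟩
  · intro x y hxy
    rw [happ] at hxy
    exact hb.injective U (ha.injective _ hxy)
  · rintro ⟨c, rfl⟩ γ
    exact H18Quot.invariant_app θ (a ≫ b) hinv U c γ
  obtain ⟨t, ht⟩ := (ha.range_iff (b ⁻¹ᵁ U) s).2 fun g => hs (g, 1)
  obtain ⟨c, hc⟩ := (hb.range_iff U t).2 fun h => ha.injective (b ⁻¹ᵁ U) (by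
    refine Eq.trans ?_ ht.symm
    refine Eq.trans ?_ (hs (1, h))
    refine Eq.trans ?_ (congrArg ((θ (1, h)).hom.appLE _ _ _).hom ht)
    rw [Scheme.Hom.app_eq_appLE]
    change ((σ h).hom.appLE _ _ _ ≫ a.appLE _ _ _).hom t =
      (a.appLE _ _ _ ≫ (θ (1, h)).hom.appLE (a ⁻¹ᵁ (b ⁻¹ᵁ U)) (a ⁻¹ᵁ (b ⁻¹ᵁ U)) _).hom t
    simp only [Scheme.Hom.appLE_comp_appLE, hσ h])
  exact ⟨c, by rw [happ]; exact (congrArg (a.app (b ⁻¹ᵁ U)).hom hc).trans ht⟩

variable {X₁ Y₁ XG YH S : Scheme.{u}}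

theorem isQuot_prod [Finite G] [Finite H] (fX : X ⟶ S) (fY : Y ⟶ S) (gX : XG ⟶ S) (gY : YH ⟶ S)
    [Flat fY] [Flat gX] (ρ : G →* Aut X) (σ : H →* Aut Y) (hσ : ∀ h, (σ h).hom ≫ fY = fY)
    (p : X ⟶ XG) (hp : p ≫ gX = fX) (q : Y ⟶ YH) (hq : q ≫ gY = fY)
    (hP : SGA1.IsQuot ρ p) (hQ : SGA1.IsQuot σ q) (θ : G × H →* Aut (pullback fX fY))
    (hθ1 : ∀ gh : G × H, (θ gh).hom ≫ pullback.fst fX fY = pullback.fst fX fY ≫ (ρ gh.1).hom)
    (hθ2 : ∀ gh : G × H, (θ gh).hom ≫ pullback.snd fX fY = pullback.snd fX fY ≫ (σ gh.2).hom)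
    (π : pullback fX fY ⟶ pullback gX gY) (hπ1 : π ≫ pullback.fst gX gY = pullback.fst fX fY ≫ p)
    (hπ2 : π ≫ pullback.snd gX gY = pullback.snd fX fY ≫ q) :
    SGA1.IsQuot θ π := by
  let a : pullback fX fY ⟶ pullback gX fY :=
    pullback.lift (pullback.fst fX fY ≫ p) (pullback.snd fX fY)
      (by rw [Category.assoc, hp, pullback.condition])
  let b : pullback gX fY ⟶ pullback gX gY :=
    pullback.lift (pullback.fst gX fY) (pullback.snd gX fY ≫ q)
      (by rw [Category.assoc, hq, pullback.condition])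
  have H1 : IsPullback (pullback.fst fX fY) a p (pullback.fst gX fY) := by
    refine (IsPullback.of_right ?_ (pullback.lift_fst _ _ _) (IsPullback.of_hasPullback gX fY).flip).flip
    rw [pullback.lift_snd, hp]
    exact (IsPullback.of_hasPullback fX fY).flip
  have H2 : IsPullback (pullback.snd gX fY) b q (pullback.snd gX gY) := by
    refine (IsPullback.of_right ?_ (pullback.lift_snd _ _ _) (IsPullback.of_hasPullback gX gY)).flip
    rw [pullback.lift_fst, hq]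
    exact IsPullback.of_hasPullback gX fY
  let σf : H → (pullback gX fY ⟶ pullback gX fY) := fun h =>
    pullback.lift (pullback.fst gX fY) (pullback.snd gX fY ≫ (σ h).hom)
      (by rw [Category.assoc, hσ, pullback.condition])
  have hσf : ∀ h h', σf (h * h') = σf h' ≫ σf h := fun h h' => by
    apply pullback.hom_ext <;>
      simp [σf, map_mul, Aut.Aut_mul_def]
  have hσ1 : σf 1 = 𝟙 _ := by
    apply pullback.hom_ext <;> simp [σf, show (1 : Aut Y).hom = 𝟙 Y from rfl]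
  let σ₁ : H →* Aut (pullback gX fY) :=
    { toFun := fun h => ⟨σf h, σf h⁻¹, by rw [← hσf, inv_mul_cancel, hσ1],
        by rw [← hσf, mul_inv_cancel, hσ1]⟩
      map_one' := Iso.ext hσ1
      map_mul' := fun h h' => Iso.ext (hσf h h') }
  have q1 : SGA1.IsQuot (θ.comp (MonoidHom.inl G H)) a := by
    refine isQuot_of_flat_baseChange hP H1 _ (fun g => hθ1 (g, 1)) fun g => ?_
    apply pullback.hom_ext
    · simp only [a, Category.assoc, pullback.lift_fst, MonoidHom.coe_comp, Function.comp_apply,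
        MonoidHom.inl_apply, reassoc_of% (hθ1 (g, 1)), hP.inv]
    · simp [a, hθ2, show (1 : Aut Y).hom = 𝟙 Y from rfl]
  have q2 : SGA1.IsQuot σ₁ b := by
    refine isQuot_of_flat_baseChange hQ H2 _ (fun h => pullback.lift_snd _ _ _) fun h => ?_
    apply pullback.hom_ext <;> simp [b, σ₁, σf, hQ.inv]
  have hπ : π = a ≫ b := by
    apply pullback.hom_ext <;> simp [a, b, hπ1, hπ2]
  rw [hπ]
  refine isQuot_comp q1 q2 fun h => ?_
  apply pullback.hom_ext
  · simp [a, σ₁, σf, reassoc_of% (hθ1 (1, h)), show (1 : Aut X).hom = 𝟙 X from rfl]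
  · simp [a, σ₁, σf, hθ2]

end Groth.Agent.H27QuotBC
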